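import Mathlib.RingTheory.Invariant.Defs
import Mathlib.RingTheory.Unramified.Finite
import Mathlib.RingTheory.Finiteness.Projective
import Mathlib.LinearAlgebra.TensorProduct.Finiteness
import Mathlib.RingTheory.Ideal.Maximal
import Mathlib.Algebra.Group.Subgroup.Basic
import Mathlib.RingTheory.Smooth.Fiber
import Mathlib.RingTheory.Finiteness.ModuleFinitePresentation

/-!
# A finite group acting with trivial inertia
-/

universe u v w

open TensorProduct

namespace Groth.L05.Galois

variable {R : Type u} {S : Type v} {G : Type w} [CommRing R] [CommRing S] [Algebra R S] [Group G]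
  [Finite G] [MulSemiringAction G S] [SMulCommClass G R S] [Algebra.IsInvariant R S G]

/-- With trivial inertia at all maximal ideals there is a finite family separating the group. -/
theorem exists_separating (R : Type u) {S : Type v} {G : Type w} [CommRing R] [CommRing S]
    [Algebra R S] [Group G] [Finite G] [MulSemiringAction G S] [SMulCommClass G R S]
    (h : ∀ n : Ideal S, n.IsMaximal → n.toAddSubgroup.inertia G = ⊥) :
    ∃ (m : Finset (S × S)), ∀ σ : G, (σ = 1 → ∑ i ∈ m, i.1 * σ • i.2 = 1) ∧
      (σ ≠ 1 → ∑ i ∈ m, i.1 * σ • i.2 = 0) := by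
  classical
  haveI := Fintype.ofFinite G
  let ψ : G → S ⊗[R] S →ₐ[R] S := fun τ => Algebra.TensorProduct.lift (AlgHom.id R S)
    (MulSemiringAction.toAlgHom R S τ) (fun _ _ => Commute.all _ _)
  have hu : ∀ σ : G, σ ≠ 1 → ∃ u : S ⊗[R] S, ψ 1 u = 0 ∧ ψ σ u = 1 := by
    intro σ hσ
    have htop : Ideal.span (Set.range fun x : S => x - σ • x) = ⊤ := by
      by_contra hne
      obtain ⟨n, hn, hle⟩ := Ideal.exists_le_maximal _ hne
      refine hσ ?_
      rw [← Subgroup.mem_bot, ← h n hn, AddSubgroup.mem_inertia]
      intro x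
      show σ • x - x ∈ n
      simpa using n.neg_mem (hle (Ideal.subset_span ⟨x, rfl⟩))
    obtain ⟨c, hc⟩ := Finsupp.mem_ideal_span_range_iff_exists_finsupp.mp
      (htop.ge (Submodule.mem_top (x := (1 : S))))
    refine ⟨c.sum fun x a => (a * x) ⊗ₜ[R] (1 : S) - a ⊗ₜ x, ?_, ?_⟩
    · simp [ψ, map_finsuppSum]
    · rw [map_finsuppSum]
      refine Eq.trans ?_ hc
      refine Finsupp.sum_congr fun x _ => ?_
      simp [ψ, mul_sub]
  choose u hu1 hu2 using hu
  let e : S ⊗[R] S := ∏ σ : G, if hσ : σ = 1 then 1 else 1 - u σ hσ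
  obtain ⟨m, hm⟩ := TensorProduct.exists_finset e
  refine ⟨m, fun σ => ?_⟩
  have hψ : ∑ i ∈ m, i.1 * σ • i.2 = ψ σ e := by rw [hm]; simp [ψ]
  rw [hψ, map_prod]
  refine ⟨fun hσ => Finset.prod_eq_one fun τ _ => ?_, fun hσ => Finset.prod_eq_zero (Finset.mem_univ σ) ?_⟩
  · subst hσ
    split_ifs with hτ
    · exact map_one _
    · rw [map_sub, map_one, hu1 τ hτ, sub_zero]
  · rw [dif_neg hσ, map_sub, map_one, hu2 σ hσ, sub_self]

/-- A finite group action with trivial inertia gives a finite projective unramified extension. -/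
theorem finite_projective_formallyUnramified [FaithfulSMul R S]
    (h : ∀ n : Ideal S, n.IsMaximal → n.toAddSubgroup.inertia G = ⊥) :
    Module.Finite R S ∧ Module.Projective R S ∧ Algebra.FormallyUnramified R S := by
  classical
  haveI := Fintype.ofFinite G
  obtain ⟨m, hm⟩ := exists_separating R h
  have hm' : ∀ σ : G, ∑ i ∈ m, i.2 * σ • i.1 = if σ = 1 then 1 else 0 := by
    intro σ
    have hinv : ∑ i ∈ m, i.2 * σ • i.1 = σ • ∑ i ∈ m, i.1 * σ⁻¹ • i.2 := by
      rw [Finset.smul_sum]
      refine Finset.sum_congr rfl fun i _ => ?_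
      rw [smul_mul', smul_inv_smul, mul_comm]
    rw [hinv]
    split_ifs with hσ
    · subst hσ; rw [(hm _).1 inv_one, smul_one]
    · rw [(hm _).2 (by simpa using hσ), smul_zero]
  -- the trace
  have htr : ∀ s : S, ∃ r : R, algebraMap R S r = ∑ σ : G, σ • s := fun s =>
    Algebra.IsInvariant.isInvariant (A := R) (G := G) _ fun τ => by
      rw [Finset.smul_sum]
      simp_rw [← mul_smul]
      exact Equiv.sum_comp (Equiv.mulLeft τ) (fun σ => σ • s)
  choose tr htr using htr
  have hinj := FaithfulSMul.algebraMap_injective R S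
  let T : S →ₗ[R] R :=
    { toFun := tr
      map_add' := fun a b => hinj (by simp [htr, Finset.sum_add_distrib])
      map_smul' := fun r a => hinj (by
        simp only [smul_eq_mul, RingHom.id_apply, map_mul, htr, Finset.mul_sum]
        exact Finset.sum_congr rfl fun σ _ => by rw [smul_comm, Algebra.smul_def]) }
  have hdual : ∀ s : S, ∑ i ∈ m, algebraMap R S (T (i.1 * s)) * i.2 = s := by
    intro s
    simp only [T, LinearMap.coe_mk, AddHom.coe_mk, htr, Finset.sum_mul]
    rw [Finset.sum_comm]
    have : ∀ σ : G, ∑ i ∈ m, σ • (i.1 * s) * i.2 = (if σ = 1 then 1 else 0) * σ • s := by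
      intro σ
      rw [← hm' σ, Finset.sum_mul]
      refine Finset.sum_congr rfl fun i _ => ?_
      rw [smul_mul']; ring
    rw [Finset.sum_congr rfl fun σ _ => this σ]
    simp
  let toF : S →ₗ[R] (m → R) := LinearMap.pi fun i => T.comp (LinearMap.mulLeft R i.1.1)
  let ofF : (m → R) →ₗ[R] S := Fintype.linearCombination R fun i : m => i.1.2
  have hsplit : ofF.comp toF = LinearMap.id := LinearMap.ext fun s => by
    show Fintype.linearCombination R (fun i : m => i.1.2) (toF s) = s
    rw [Fintype.linearCombination_apply]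
    conv_rhs => rw [← hdual s]
    rw [← Finset.sum_coe_sort m]
    simp [toF, Algebra.smul_def]
  have hsurj : Function.Surjective ofF := fun s => ⟨toF s, LinearMap.congr_fun hsplit s⟩
  haveI hfin : Module.Finite R S := Module.Finite.of_surjective ofF hsurj
  refine ⟨hfin, Module.Projective.of_split toF ofF hsplit, ?_⟩
  -- the idempotent
  let e : G → S ⊗[R] S := fun σ => ∑ i ∈ m, (σ • i.1) ⊗ₜ[R] i.2
  let ψ : G → S ⊗[R] S →ₐ[R] S := fun τ => Algebra.TensorProduct.lift (AlgHom.id R S)
    (MulSemiringAction.toAlgHom R S τ) (fun _ _ => Commute.all _ _)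
  have hexp : ∀ z : S ⊗[R] S, z = ∑ σ : G, ψ σ z ⊗ₜ[R] (1 : S) * e σ := by
    intro z
    induction z using TensorProduct.induction_on with
    | zero => simp
    | add x y hx hy =>
      simp only [map_add, TensorProduct.add_tmul, add_mul, Finset.sum_add_distrib, ← hx, ← hy]
    | tmul a b =>
      conv_lhs => rw [← hdual b, TensorProduct.tmul_sum]
      simp only [e, Finset.mul_sum]
      rw [Finset.sum_comm]
      refine Finset.sum_congr rfl fun i _ => ?_
      rw [← Algebra.smul_def, ← TensorProduct.smul_tmul, Algebra.smul_def]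
      simp only [T, LinearMap.coe_mk, AddHom.coe_mk, htr, Finset.sum_mul, TensorProduct.sum_tmul]
      refine Finset.sum_congr rfl fun σ _ => ?_
      simp only [ψ, Algebra.TensorProduct.lift_tmul, AlgHom.id_apply, Algebra.TensorProduct.tmul_mul_tmul,
        one_mul, MulSemiringAction.toAlgHom_apply, smul_mul']
      congr 1; ring
  have hψe : ∀ τ : G, ψ τ (e 1) = if τ = 1 then 1 else 0 := by
    intro τ
    simp only [e, map_sum, ψ, Algebra.TensorProduct.lift_tmul, AlgHom.id_apply,
      MulSemiringAction.toAlgHom_apply, one_smul]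
    split_ifs with hτ
    · exact (hm τ).1 hτ
    · exact (hm τ).2 hτ
  refine Algebra.FormallyUnramified.iff_exists_tensorProduct.mpr ⟨e 1, fun s => ?_, ?_⟩
  · rw [hexp (_ * e 1)]
    refine Finset.sum_eq_zero fun τ _ => ?_
    rw [map_mul, hψe]
    split_ifs with hτ
    · subst hτ
      simp [ψ]
    · simp
  · have := hψe 1
    rw [if_pos rfl] at this
    rw [← this]
    have he : Algebra.TensorProduct.lmul' R (S := S) = ψ 1 := by
      refine Algebra.TensorProduct.ext (AlgHom.ext fun x => ?_) (AlgHom.ext fun x => ?_) <;> simp [ψ]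
    rw [he]

/-- A finite group action with trivial inertia gives an étale extension of the invariants. -/
theorem etale_of_inertia_eq_bot [FaithfulSMul R S]
    (h : ∀ n : Ideal S, n.IsMaximal → n.toAddSubgroup.inertia G = ⊥) : Algebra.Etale R S := by
  obtain ⟨_, _, _⟩ := finite_projective_formallyUnramified (R := R) h
  haveI : Module.FinitePresentation R S := Module.finitePresentation_of_projective R S
  haveI : Algebra.FinitePresentation R S := Algebra.FinitePresentation.of_finitePresentation R S
  haveI : Module.Flat R S := inferInstance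
  exact Algebra.Etale.of_formallyUnramified_of_flat

end Groth.L05.Galois
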